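import Cfsg.Agent.H421.UniS.Unip
import Cfsg.Agent.H421.Uni.Wt
import Cfsg.Agent.Nodes.WittU
import Cfsg.Agent.H45.Uni.Q.Transfer
import Cfsg.Agent.H45.Uni.Final
import Cfsg.Agent.Prune
set_option linter.all false

section
prune_inst 0x7f00000000000000000000000000000000000000000000000000000000000000000000000000000000000000000000000000000000000000000000000000000000000000000000000000000000000000003fffffffffffffffffffffffffffbeffbdffffffff

-- part: H421/UniS/Wt
section
set_option linter.all false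
open scoped Cfsg.Agent.FastGrp

/-!
# Theorem (U) for symplectic groups: `SWt`, simple modules of the finite group have weight vectors
(helper421, for helper45)
-/

set_option autoImplicit false
set_option linter.unusedSectionVars false
set_option linter.unusedSimpArgs false

namespace Cfsg.Agent.H421.UniS

open Matrix Cfsg.Agent.H45.UniS Cfsg.Agent.ClassicalGeometry.SympBasic
open Cfsg.Agent.TitsThree Cfsg.Agent.TitsThree.SpIdent Cfsg.Agent.TitsThree.WittFrame
open CoxeterSystem Cfsg.Agent.ChevalleyStructure.CoxeterGeom Cfsg.Agent.Tits.Roots Cfsg.Agent.Tits.Core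
  Cfsg.Agent.Nodes.Reps Cfsg.Agent.Nodes.BNOf Cfsg.Agent.Nodes.TypeC
  Cfsg.Agent.Nodes.WittRoot Cfsg.Agent.Nodes.WittRGD Cfsg.Agent.Nodes.RGDLib
open Cfsg.Agent.H421.UniS (ee ff)

variable {m : ℕ} {F : Type*} [Field F]

theorem tp_tp (g : SG m F) : tp (tp g) = g := Subtype.ext (Matrix.transpose_transpose g.1)

theorem tp_inv (g : SG m F) : tp g⁻¹ = (tp g)⁻¹ := by
  rw [eq_comm, inv_eq_iff_mul_eq_one, ← tp_mul, inv_mul_cancel, tp_one]

theorem tp_ys (i : Fin m) (s : F) : tp (ys i s) = xs i s := tp_tp _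
theorem tp_xs (i : Fin m) (s : F) : tp (xs i s) = ys i s := rfl

theorem tp_ts (t : Fin m → Fˣ) : tp (ts t : SG m F) = ts t := Subtype.ext (Matrix.diagonal_transpose _)

theorem ts_inv (t : Fin m → Fˣ) : (ts t : SG m F)⁻¹ = ts t⁻¹ := by
  rw [inv_eq_iff_mul_eq_one, ← ts_mul, mul_inv_cancel, ts_one]

/-- the isomorphism with the isometry group, twisted by the inverse transpose -/
noncomputable def psi (m : ℕ) (F : Type*) [Field F] : isos (_root_.Cfsg.Agent.TitsThree.SpIdent.form m F) →* SG m F where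
  toFun g := (tp (toSp g))⁻¹
  map_one' := by rw [map_one, tp_one, inv_one]
  map_mul' g h := by rw [map_mul, tp_mul, _root_.mul_inv_rev]

theorem psi_apply (g : isos (_root_.Cfsg.Agent.TitsThree.SpIdent.form m F)) : psi m F g = (tp (toSp g))⁻¹ := rfl

theorem psi_inj : Function.Injective (psi m F) := by
  intro g h e
  rw [psi_apply, psi_apply, _root_.inv_inj] at e
  have := congrArg tp e
  rw [tp_tp, tp_tp] at this
  exact toSp_injective this

theorem psi_surj : Function.Surjective (psi m F) := by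
  intro g
  obtain ⟨h, e⟩ := toSp_surjective (tp g⁻¹)
  exact ⟨h, by rw [psi_apply, e, tp_tp, inv_inv]⟩

theorem psi_of_ys {g : isos (_root_.Cfsg.Agent.TitsThree.SpIdent.form m F)} {i : Fin m} {s : F} (h : toSp g = ys i s) : psi m F g = xs i (-s) := by
  rw [psi_apply, h, tp_ys, xs_inv]

theorem psi_of_xs {g : isos (_root_.Cfsg.Agent.TitsThree.SpIdent.form m F)} {i : Fin m} {s : F} (h : toSp g = xs i s) : psi m F g = ys i (-s) := by
  rw [psi_apply, h, tp_xs, ys_inv]

/-- the frame -/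
noncomputable abbrev Fs (m : ℕ) (F : Type*) [Field F] : Frame (_root_.Cfsg.Agent.TitsThree.SpIdent.form m F) (Fin m) := SpIdent.frame m F

theorem nx_long {i : Fin m} (hi : i.1 + 1 < m) : nx i = (⟨i.1 + 1, hi⟩, false) := dif_pos hi
theorem nx_short {i : Fin m} (hi : ¬ i.1 + 1 < m) : nx i = (i, true) := dif_neg hi

theorem sl_xs_long' {i : Fin m} (hi : i.1 + 1 < m) (t : F) (h : sympForm m F (ee i) (t • ff ⟨i.1 + 1, hi⟩) = 0) :
    sl (ee i) (t • ff ⟨i.1 + 1, hi⟩) 0 h = xs i (-t) := by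
  apply lin_inj
  apply LinearEquiv.ext
  intro v
  rw [sl_apply, xs_long hi, om_ee', sympForm_smul_right, om_ff']
  module

theorem sc_surj (y : Fin m × Bool) (s : F) : ∃ t, (Fs m F).sc y t = s := by
  refine ⟨(_root_.Cfsg.Agent.TitsThree.SpIdent.form m F).σ (-((_root_.Cfsg.Agent.TitsThree.SpIdent.form m F).ε * ((Fs m F).η y)⁻¹ * s)), ?_⟩
  rw [Frame.sc, (_root_.Cfsg.Agent.TitsThree.SpIdent.form m F).σσ]
  have h1 := (_root_.Cfsg.Agent.TitsThree.SpIdent.form m F).ε_ne
  have h2 := (Fs m F).η_ne y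
  field_simp

theorem mem_rg_sr {i : Fin m} {g : isos (_root_.Cfsg.Agent.TitsThree.SpIdent.form m F)} :
    g.1 ∈ rg (Fs m F) (sr i) ↔ ∃ s : F, psi m F g = xs i s := by
  rw [rg_sr]
  by_cases hi : i.1 + 1 < m
  · have hne : i ≠ ⟨i.1 + 1, hi⟩ := by simp [Fin.ext_iff]
    have h1 : ∀ t : F, sympForm m F (ff i) (t • ee ⟨i.1 + 1, hi⟩) = 0 := by
      intro t
      rw [om_ff, Pi.smul_apply, ee_e, if_neg hne, smul_zero]
    have key : ∀ t, psi m F (SpGen.Xi (i, true) (⟨i.1 + 1, hi⟩, false) t) = xs i t := by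
      intro t
      rw [psi_of_ys ((toSp_X_true hne t (h1 t)).trans (sl_ys_long hi t (h1 t))), _root_.neg_neg]
    rw [nx_long hi, PG_ne _ hne, mem_XG]
    constructor
    · rintro ⟨t, e⟩
      refine ⟨t, ?_⟩
      rw [← key]
      exact congrArg _ (Subtype.ext e)
    · rintro ⟨s, e⟩
      refine ⟨s, ?_⟩
      rw [← key] at e
      exact congrArg Subtype.val (psi_inj e)
  · rw [nx_short hi, PG_self, mem_ZG]
    have key : ∀ c (h : (Fs m F).Z (i, true) (SpIdent.adm c) ∈ isos (_root_.Cfsg.Agent.TitsThree.SpIdent.form m F)),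
        psi m F ⟨(Fs m F).Z (i, true) (SpIdent.adm c), h⟩ = xs i c := by
      intro c h
      have : toSp ⟨(Fs m F).Z (i, true) (SpIdent.adm c), h⟩ = ys i (-c) :=
        sl_ys_short hi c (sympForm_zero_right (ff i))
      rw [psi_of_ys this, _root_.neg_neg]
    have hZ : ∀ c, (Fs m F).Z (i, true) (SpIdent.adm c) ∈ isos (_root_.Cfsg.Agent.TitsThree.SpIdent.form m F) := fun c =>
      (Cfsg.Agent.Nodes.WittU.amb_Sp).Z_mem _ _
    constructor
    · rintro ⟨p, e⟩
      rw [SpIdent.eq_adm p] at e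
      refine ⟨p.c, ?_⟩
      rw [← key _ (hZ _)]
      exact congrArg _ (Subtype.ext e)
    · rintro ⟨s, e⟩
      refine ⟨SpIdent.adm s, ?_⟩
      rw [← key _ (hZ _)] at e
      exact congrArg Subtype.val (psi_inj e)

theorem mem_rg_neg_sr {i : Fin m} {g : isos (_root_.Cfsg.Agent.TitsThree.SpIdent.form m F)} :
    g.1 ∈ rg (Fs m F) (-sr i) ↔ ∃ s : F, psi m F g = ys i s := by
  rw [rg_neg_sr]
  have e1 : ng ((i, true) : Fin m × Bool) = (i, false) := rfl
  by_cases hi : i.1 + 1 < m
  · have hne : i ≠ ⟨i.1 + 1, hi⟩ := by simp [Fin.ext_iff]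
    have h1 : ∀ t : F, sympForm m F (ee i) (t • ff ⟨i.1 + 1, hi⟩) = 0 := by
      intro t
      rw [om_ee, Pi.smul_apply, ff_f, if_neg hne, smul_zero, neg_zero]
    have hX : ∀ t, (Fs m F).X (i, false) (⟨i.1 + 1, hi⟩, true) t ∈ isos (_root_.Cfsg.Agent.TitsThree.SpIdent.form m F) := fun t =>
      (Cfsg.Agent.Nodes.WittU.amb_Sp).X_mem _ _ _
    have key : ∀ t, psi m F ⟨(Fs m F).X (i, false) (⟨i.1 + 1, hi⟩, true) t, hX t⟩ =
        ys i ((Fs m F).sc (⟨i.1 + 1, hi⟩, true) t) := by
      intro t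
      have h2 : toSp ⟨(Fs m F).X (i, false) (⟨i.1 + 1, hi⟩, true) t, hX t⟩ =
          sl (ee i) ((Fs m F).sc (⟨i.1 + 1, hi⟩, true) t • ff ⟨i.1 + 1, hi⟩) 0 (h1 _) := by
        apply congrArg toSp
        apply Subtype.ext
        change (Fs m F).X (i, false) (⟨i.1 + 1, hi⟩, true) t = _
        rw [(Fs m F).X_eq (x := (i, false)) (y := (⟨i.1 + 1, hi⟩, true)) hne]
        exact (_root_.Cfsg.Agent.TitsThree.SpIdent.form m F).sie_congr _ _ (sympForm_self (ee i)) (h1 _) rfl rfl rfl
      rw [psi_of_xs (h2.trans (sl_xs_long' hi _ (h1 _))), _root_.neg_neg]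
    have e2 : ng (nx i) = (⟨i.1 + 1, hi⟩, true) := by rw [nx_long hi]; rfl
    rw [e2, e1, PG_ne _ hne, mem_XG]
    constructor
    · rintro ⟨t, e⟩
      refine ⟨(Fs m F).sc (⟨i.1 + 1, hi⟩, true) t, ?_⟩
      rw [← key t]
      exact congrArg _ (Subtype.ext e)
    · rintro ⟨s, e⟩
      obtain ⟨t, rfl⟩ := sc_surj (F := F) (⟨i.1 + 1, hi⟩, true) s
      refine ⟨t, ?_⟩
      rw [← key] at e
      exact congrArg Subtype.val (psi_inj e)
  · rw [nx_short hi, PG_self, mem_ZG, e1]
    have key : ∀ c (h : (Fs m F).Z (i, false) (SpIdent.adm c) ∈ isos (_root_.Cfsg.Agent.TitsThree.SpIdent.form m F)),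
        psi m F ⟨(Fs m F).Z (i, false) (SpIdent.adm c), h⟩ = ys i (-c) := by
      intro c h
      have : toSp ⟨(Fs m F).Z (i, false) (SpIdent.adm c), h⟩ = xs i c :=
        sl_xs_short hi c (sympForm_zero_right (ee i))
      rw [psi_of_xs this]
    have hZ : ∀ c, (Fs m F).Z (i, false) (SpIdent.adm c) ∈ isos (_root_.Cfsg.Agent.TitsThree.SpIdent.form m F) := fun c =>
      (Cfsg.Agent.Nodes.WittU.amb_Sp).Z_mem _ _
    constructor
    · rintro ⟨p, e⟩
      rw [SpIdent.eq_adm p] at e
      refine ⟨-p.c, ?_⟩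
      rw [← key _ (hZ _)]
      exact congrArg _ (Subtype.ext e)
    · rintro ⟨s, e⟩
      refine ⟨SpIdent.adm (-s), ?_⟩
      rw [← _root_.neg_neg s, ← key _ (hZ _)] at e
      exact congrArg Subtype.val (psi_inj e)

theorem rgd_sp [Finite F] {p : ℕ} [Fact p.Prime] [CharP F p] (hp2 : Odd p) :
    RGD (CoxeterMatrix.B m).toCoxeterSystem (isCartan m) p ((Tor (Fs m F) (isos (_root_.Cfsg.Agent.TitsThree.SpIdent.form m F))).subgroupOf (isos (_root_.Cfsg.Agent.TitsThree.SpIdent.form m F)))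
      (fun i => ⟨_root_.Cfsg.Agent.Nodes.WittRGD.nn (Fs m F) (SpIdent.adm 1) i, nn_mem Cfsg.Agent.Nodes.WittU.amb_Sp _ i⟩)
      (fun x => (rg (Fs m F) x).subgroupOf (isos (_root_.Cfsg.Agent.TitsThree.SpIdent.form m F))) :=
  rgd_restrict (Cfsg.Agent.Nodes.WittRGD.rgd Cfsg.Agent.Nodes.WittU.amb_Sp hp2 (p0 := SpIdent.adm 1) one_ne_zero _)
    (isos (_root_.Cfsg.Agent.TitsThree.SpIdent.form m F)) (fun x _ => (Cfsg.Agent.Nodes.WittU.amb_Sp).rg_le x)
    (fun i => nn_mem Cfsg.Agent.Nodes.WittU.amb_Sp _ i)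

theorem mem_Tor_of_psi {g : isos (_root_.Cfsg.Agent.TitsThree.SpIdent.form m F)} {t : Fin m → Fˣ} (h : psi m F g = ts t) :
    g ∈ (Tor (Fs m F) (isos (_root_.Cfsg.Agent.TitsThree.SpIdent.form m F))).subgroupOf (isos (_root_.Cfsg.Agent.TitsThree.SpIdent.form m F)) := by
  rw [Subgroup.mem_subgroupOf]
  refine ⟨g.2, ?_⟩
  have h1 : toSp g = ts t⁻¹ := by
    rw [psi_apply, inv_eq_iff_eq_inv] at h
    have := congrArg tp h
    rw [tp_tp, tp_inv, tp_ts, ts_inv] at this
    exact this
  have h2 : ∀ v, g.1 v = lin (ts t⁻¹) v := by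
    intro v
    rw [← h1, lin_apply, toSp_mulVec]
  rintro ⟨i, s⟩
  cases s
  · refine ⟨((t i)⁻¹ : Fˣ), Units.ne_zero _, ?_⟩
    rw [h2]
    exact ts_ee _ _
  · refine ⟨(((t⁻¹ : Fin m → Fˣ) i)⁻¹ : Fˣ), Units.ne_zero _, ?_⟩
    rw [h2]
    exact ts_ff _ _

theorem Tor_comm {s t : isos (_root_.Cfsg.Agent.TitsThree.SpIdent.form m F)}
    (hs : s ∈ (Tor (Fs m F) (isos (_root_.Cfsg.Agent.TitsThree.SpIdent.form m F))).subgroupOf (isos (_root_.Cfsg.Agent.TitsThree.SpIdent.form m F)))
    (ht : t ∈ (Tor (Fs m F) (isos (_root_.Cfsg.Agent.TitsThree.SpIdent.form m F))).subgroupOf (isos (_root_.Cfsg.Agent.TitsThree.SpIdent.form m F))) : s * t = t * s := by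
  rw [Subgroup.mem_subgroupOf] at hs ht
  apply Subtype.ext
  apply LinearEquiv.toLinearMap_injective
  refine (Pi.basisFun F (Fin m ⊕ Fin m)).ext fun b => ?_
  rw [Pi.basisFun_apply]
  have key : ∀ g ∈ Tor (Fs m F) (isos (_root_.Cfsg.Agent.TitsThree.SpIdent.form m F)), ∃ c : F, g (Pi.single b 1) = c • Pi.single b 1 := by
    intro g hg
    rcases b with b | b
    · obtain ⟨c, -, hc⟩ := hg.2 (b, false)
      exact ⟨c, hc⟩
    · obtain ⟨c, -, hc⟩ := hg.2 (b, true)
      exact ⟨c, hc⟩
  obtain ⟨c, hc⟩ := key _ hs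
  obtain ⟨d, hd⟩ := key _ ht
  change s.1 (t.1 (Pi.single b 1)) = t.1 (s.1 (Pi.single b 1))
  rw [hc, hd, map_smul, map_smul, hc, hd, smul_comm]

theorem hs_mul (i : Fin m) (b c : Fˣ) : hs i (b * c) = hs i b * hs i c := by
  funext j
  rw [Pi.mul_apply]
  unfold hs
  split_ifs
  · rfl
  · rw [mul_inv]
  · rw [mul_one]

theorem rs_hs (i : Fin m) (c : Fˣ) : rs i (hs i c) = c ^ 2 := by
  unfold rs
  by_cases hi : i.1 + 1 < m
  · have hne : (⟨i.1 + 1, hi⟩ : Fin m) ≠ i := by
      intro h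
      have := congrArg Fin.val h
      simp at this
    simp [hi, hs, hne, pow_two]
  · simp [hi, hs]

theorem hs_x (i : Fin m) (c : Fˣ) (a : F) : ts (hs i c) * xs i a = xs i ((c : F) ^ 2 * a) * ts (hs i c) := by
  have := (sTor (hs i c) i a).1
  rw [rs_hs, Units.val_pow_eq_pow_val] at this
  exact this

theorem xs_inj (i : Fin m) : Function.Injective (fun s : F => (xs i s : SG m F)) := by
  intro s t h
  by_cases hi : i.1 + 1 < m
  · have h1 : lin (xs i s) (ee ⟨i.1 + 1, hi⟩) (.inl i) = lin (xs i t) (ee ⟨i.1 + 1, hi⟩) (.inl i) :=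
      congrArg (fun g : SG m F => lin g (ee ⟨i.1 + 1, hi⟩) (.inl i)) h
    have hne : i ≠ ⟨i.1 + 1, hi⟩ := by simp [Fin.ext_iff]
    rw [xs_long hi, xs_long hi] at h1
    simpa [ee_e, ee_f, ff_e, ff_f, hne] using h1
  · have h1 : lin (xs i s) (ff i) (.inl i) = lin (xs i t) (ff i) (.inl i) :=
      congrArg (fun g : SG m F => lin g (ff i) (.inl i)) h
    rw [xs_short hi, xs_short hi] at h1
    simpa [ee_e, ee_f, ff_e, ff_f] using h1

theorem ys_ne (i : Fin m) : (ys i (1 : F) : SG m F) ≠ 1 := by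
  intro h
  have h1 : xs i (1 : F) = xs i 0 := by
    have := congrArg tp h
    rw [tp_ys, tp_one, ← xs_zero i] at this
    exact this
  exact one_ne_zero (xs_inj i h1)

theorem sWt {p : ℕ} [Fintype F] [Fact p.Prime] [CharP F p] (hp2 : Odd p)
    {k : Type*} [Field k] [Algebra F k] [IsAlgClosed k] {W : Type*} [AddCommGroup W] [Module k W] :
    SWt m F k W := by
  classical
  intro ρ hfd hnt _
  have hcp : CharP k p := charP_of_injective_algebraMap (algebraMap F k).injective p
  have h2 : (2 : F) ≠ 0 := by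
    intro h0
    have h1 : ((2 : ℕ) : F) = 0 := by exact_mod_cast h0
    rw [CharP.cast_eq_zero_iff F p] at h1
    have h3 := (Nat.prime_dvd_prime_iff_eq (Fact.out : p.Prime) Nat.prime_two).1 h1
    subst h3
    exact absurd hp2 (by decide)
  have hfinW : Finite (CoxeterMatrix.B m).Group := finite_W (CoxeterMatrix.B m).toCoxeterSystem
  have hR := rgd_sp (m := m) (F := F) hp2
  have hfinL : Finite (VV m F ≃ₗ[F] VV m F) :=
    Finite.of_injective (fun g : VV m F ≃ₗ[F] VV m F => (g : VV m F → VV m F)) DFunLike.coe_injective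
  have hfinY : Finite (isos (_root_.Cfsg.Agent.TitsThree.SpIdent.form m F)) := inferInstance
  set ρ' : isos (_root_.Cfsg.Agent.TitsThree.SpIdent.form m F) →* Module.End k W := ρ.comp (psi m F) with hρ'
  have hρ : ∀ g, ρ' g = ρ (psi m F g) := fun g => rfl
  obtain ⟨v, hv, hfix, hTv, hTi⟩ := Uni.exists_vec hR ρ' (fun s hs t ht => Tor_comm hs ht)
  choose sec hsec using psi_surj (m := m) (F := F)
  have hmx : ∀ i (s : F), sec (xs i s) ∈ (rg (Fs m F) (sr i)).subgroupOf (isos (_root_.Cfsg.Agent.TitsThree.SpIdent.form m F)) := by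
    intro i s
    rw [Subgroup.mem_subgroupOf]
    exact mem_rg_sr.2 ⟨s, hsec _⟩
  have hfix' : ∀ i (s : F), ρ (xs i s) v = v := by
    intro i s
    have := Omega.CR.X_fix hR ρ' hfix i (hmx i s)
    rwa [hρ, hsec] at this
  have hT' : ∀ i b, ∃ c : k, ρ (ts (hs i b)) v = c • v := by
    intro i b
    obtain ⟨c, hc⟩ := hTv (sec (ts (hs i b))) (mem_Tor_of_psi (hsec _))
    exact ⟨c, by rwa [hρ, hsec] at hc⟩
  have hθ : ∀ i, ∃ θ : k, ∑ s, ρ (xs i s) (ρ (ys i 1) v) = θ • v := by
    intro i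
    have hsum : ∀ w : W, ∑ s, ρ (xs i s) w =
        Omega.CR.sg ρ' ((rg (Fs m F) (sr i)).subgroupOf (isos (_root_.Cfsg.Agent.TitsThree.SpIdent.form m F))) w := by
      intro w
      let _ := Fintype.ofFinite ((rg (Fs m F) (sr i)).subgroupOf (isos (_root_.Cfsg.Agent.TitsThree.SpIdent.form m F)))
      rw [Omega.CR.sg_def]
      refine Fintype.sum_bijective
        (fun s : F => (⟨sec (xs i s), hmx i s⟩ : (rg (Fs m F) (sr i)).subgroupOf (isos (_root_.Cfsg.Agent.TitsThree.SpIdent.form m F))))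
        ⟨?_, ?_⟩ _ _ fun s => ?_
      · intro s t h
        have h4 := congrArg (fun g : (rg (Fs m F) (sr i)).subgroupOf (isos (_root_.Cfsg.Agent.TitsThree.SpIdent.form m F)) => psi m F g.1) h
        simp only [hsec] at h4
        exact xs_inj i h4
      · rintro ⟨g, hg⟩
        have hg' := hg
        rw [Subgroup.mem_subgroupOf] at hg'
        obtain ⟨s, hs⟩ := mem_rg_sr.1 hg'
        refine ⟨s, Subtype.ext (psi_inj ?_)⟩
        change psi m F (sec (xs i s)) = psi m F g
        rw [hsec, hs]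
      · change ρ (xs i s) w = ρ' (sec (xs i s)) w
        rw [hρ, hsec]
    obtain ⟨a, ha, t, ht, b, hb, e⟩ := hR.rk1 i (sec (ys i 1)) (by
      rw [Subgroup.mem_subgroupOf]
      exact mem_rg_neg_sr.2 ⟨1, hsec _⟩) (by
      intro h
      apply ys_ne (F := F) i
      rw [← hsec (ys i 1), h, map_one])
    obtain ⟨c, hc⟩ := hTi i
    obtain ⟨d, hd⟩ := hTv t ht
    refine ⟨c * d, ?_⟩
    have e3 : ρ (ys i 1) v = ρ' (sec (ys i 1)) v := by rw [hρ, hsec]
    rw [e3, hsum, e, map_mul, map_mul, map_mul, Module.End.mul_apply, Module.End.mul_apply, Module.End.mul_apply,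
      Omega.CR.X_fix hR ρ' hfix i hb, Omega.CR.sg_rho_of_mem ρ' _ ha]
    have h3 : ∀ w, Omega.CR.sg ρ' ((rg (Fs m F) (sr i)).subgroupOf (isos (_root_.Cfsg.Agent.TitsThree.SpIdent.form m F))) (ρ' t w) =
        ρ' t (Omega.CR.sg ρ' ((rg (Fs m F) (sr i)).subgroupOf (isos (_root_.Cfsg.Agent.TitsThree.SpIdent.form m F))) w) := by
      intro w
      rw [Omega.CR.rho_sg ρ' _ t w]
      congr 2
      exact (hR.tor _ (isRoot_sr (CoxeterMatrix.B m).toCoxeterSystem (isCartan m) i) t ht).symm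
    rw [h3]
    rw [Omega.CR.Ti_apply] at hc
    rw [hc, map_smul, hd, smul_smul]
  have key := fun i => Uni.rank_one h2 ρ (fun s => xs i s) (fun s => ys i s) (fun b => ts (hs i b))
    (fun s t => (xs_mul i s t).symm) (fun s t => (ys_mul i s t).symm)
    (fun b c => by simp only [hs_mul, ts_mul])
    (fun a s c hc => sRank i a s c hc) (fun c a => hs_x i c a) hv (hfix' i) (hT' i) (hθ i)
  choose a ha ha1 ha2 using key
  exact ⟨v, a, hv, ha, ⟨hfix', fun i b => ha1 i b, ha2⟩⟩

end Cfsg.Agent.H421.UniS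
end

-- part: H45/UniS/Minor
section
set_option linter.all false
open scoped Cfsg.Agent.FastGrp

/-!
# Theorem (U) for symplectic groups: minors, degrees, the datum
-/

set_option autoImplicit false
set_option linter.unusedSimpArgs false
set_option linter.unusedSectionVars false

namespace Cfsg.Agent.H45.UniS

open Matrix Polynomial Cfsg.Agent.H45.Uni

variable {m : ℕ} {k : Type*} [Field k]

/-- the column of `nm i` in row `inl i` -/
def nx (i : Fin m) : Fin m ⊕ Fin m := if h : i.1 + 1 < m then .inl ⟨i.1 + 1, h⟩ else .inr i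

/-- square matrices -/
abbrev MM (m : ℕ) (k : Type*) := Matrix (Fin m ⊕ Fin m) (Fin m ⊕ Fin m) k

theorem nm_row (i a : Fin m) (b : Fin m ⊕ Fin m) :
    (nm i : MM m k) (.inl a) b = if a = i ∧ b = nx i then 1 else 0 := by
  unfold nm nx
  by_cases h : i.1 + 1 < m
  · rw [dif_pos h, dif_pos h]
    rcases b with b | b
    · rw [fromBlocks_apply₁₁, Matrix.single_apply]
      congr 1
      rw [Sum.inl.injEq, eq_comm (a := i), eq_comm (b := b)]
    · rw [fromBlocks_apply₁₂, if_neg (by rintro ⟨-, h⟩; cases h)]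
      rfl
  · rw [dif_neg h, dif_neg h]
    rcases b with b | b
    · rw [fromBlocks_apply₁₁, if_neg (by rintro ⟨-, h⟩; cases h)]
      rfl
    · rw [fromBlocks_apply₁₂, Matrix.single_apply]
      congr 1
      rw [Sum.inr.injEq, eq_comm (a := i), eq_comm (b := b)]

theorem nm_col (i b : Fin m) (a : Fin m ⊕ Fin m) :
    (nm i : MM m k) a (.inl b) = if b.1 = i.1 + 1 ∧ a = .inl i then 1 else 0 := by
  unfold nm
  split_ifs with h h2 h2
  · obtain ⟨h3, rfl⟩ := h2
    simp [fromBlocks_apply₁₁, Matrix.single_apply, Fin.ext_iff, h3]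
  · rcases a with a | a
    · simp only [fromBlocks_apply₁₁, Matrix.single_apply]
      rw [if_neg]
      rintro ⟨h3, h4⟩
      exact h2 ⟨(congrArg Fin.val h4).symm, by rw [h3]⟩
    · simp [fromBlocks_apply₂₁]
  · exact absurd b.2 (by omega)
  · rcases a with a | a
    · simp [fromBlocks_apply₁₁]
    · simp [fromBlocks_apply₂₁]

theorem nm_mul_row (i a : Fin m) (g : MM m k) (b : Fin m ⊕ Fin m) :
    (nm i * g : MM m k) (.inl a) b = if a = i then g (nx i) b else 0 := by
  rw [Matrix.mul_apply]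
  simp only [nm_row]
  by_cases h : a = i
  · simp only [h, _root_.true_and, _root_.ite_mul, _root_.one_mul, _root_.MulZeroClass.zero_mul, _root_.Finset.sum_ite_eq', _root_.Finset.mem_univ, ↓ _root_.reduceIte]
  · simp only [h, _root_.false_and, ↓ _root_.reduceIte, _root_.MulZeroClass.zero_mul, _root_.Finset.sum_const_zero]

theorem mul_nm_col (i b : Fin m) (g : MM m k) (a : Fin m ⊕ Fin m) :
    (g * nm i : MM m k) a (.inl b) = if b.1 = i.1 + 1 then g a (.inl i) else 0 := by
  rw [Matrix.mul_apply]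
  simp only [nm_col]
  by_cases h : b.1 = i.1 + 1
  · simp only [h, _root_.Nat.add_left_cancel_iff, _root_.true_and, _root_.mul_ite, _root_.mul_one, _root_.MulZeroClass.mul_zero, _root_.Finset.sum_ite_eq', _root_.Finset.mem_univ, ↓ _root_.reduceIte]
  · simp only [h, _root_.false_and, ↓ _root_.reduceIte, _root_.MulZeroClass.mul_zero, _root_.Finset.sum_const_zero]

/-! ### minors -/

/-- the matrix of `mn` -/
def sm (j : Fin m) (g : MM m k) : Matrix (Fin (j.1 + 1)) (Fin (j.1 + 1)) k :=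
  g.submatrix (fun a : Fin (j.1 + 1) => Sum.inl (Fin.castLE j.2 a))
    (fun a : Fin (j.1 + 1) => Sum.inl (Fin.castLE j.2 a))

theorem mn_eq (j : Fin m) (g : MM m k) : mn j g = (sm j g).det := rfl

theorem mn_one (j : Fin m) : mn j (1 : MM m k) = 1 := by
  rw [mn_eq]
  have : sm j (1 : MM m k) = 1 := by
    apply Matrix.submatrix_one
    intro a b h
    have := Sum.inl_injective h
    exact Fin.castLE_injective _ this
  rw [this, Matrix.det_one]

theorem mn_transpose (j : Fin m) (g : MM m k) : mn j gᵀ = mn j g := by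
  rw [mn_eq, mn_eq, ← Matrix.det_transpose]
  rfl

theorem mn_mul_xs (j i : Fin m) (g : MM m k) (s : k) :
    mn j (g * (xs i s).1) = mn j g := by
  have e : ∀ a b, sm j (g * (xs i s).1) a b = sm j g a b +
      if b.1 = i.1 + 1 then s * g (.inl (Fin.castLE j.2 a)) (.inl i) else 0 := by
    intro a b
    show (g * (1 + s • nm i) : MM m k) (.inl (Fin.castLE j.2 a)) (.inl (Fin.castLE j.2 b)) = _
    rw [mul_add, mul_one, mul_smul_comm, Matrix.add_apply, Matrix.smul_apply, mul_nm_col]
    by_cases h : b.1 = i.1 + 1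
    · rw [if_pos (by exact h), if_pos h, smul_eq_mul]; rfl
    · rw [if_neg (by exact h), if_neg h, smul_zero]; rfl
  rw [mn_eq, mn_eq]
  by_cases h : i.1 + 1 < j.1 + 1
  · have e2 : sm j (g * (xs i s).1) = (sm j g).updateCol ⟨i.1 + 1, h⟩
        (fun a => sm j g a ⟨i.1 + 1, h⟩ + s • sm j g a ⟨i.1, by omega⟩) := by
      ext a b
      rw [e, Matrix.updateCol_apply]
      by_cases hb : b.1 = i.1 + 1
      · rw [if_pos hb, if_pos (Fin.ext hb)]
        have : b = ⟨i.1 + 1, h⟩ := Fin.ext hb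
        subst this
        rfl
      · rw [if_neg hb, if_neg (fun h => hb (by rw [h])), add_zero]
    rw [e2]
    exact Matrix.det_updateCol_add_smul_self _ (by simp [Fin.ext_iff]) _
  · congr 1
    ext a b
    rw [e, if_neg (by omega), add_zero]

/-! ### transposition and the torus -/

theorem tp_mul (a b : SG m k) : tp (a * b) = tp b * tp a := Subtype.ext (Matrix.transpose_mul _ _)
theorem tp_tp (a : SG m k) : tp (tp a) = a := Subtype.ext (Matrix.transpose_transpose _)
theorem tp_xs (i : Fin m) (s : k) : tp (xs i s) = ys i s := rfl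
theorem tp_ys (i : Fin m) (s : k) : tp (ys i s) = xs i s := tp_tp _

theorem mn_mul_ts (j : Fin m) (g : MM m k) (t : Fin m → kˣ) :
    mn j (g * (ts t).1) = chi j t * mn j g := by
  rw [mn_eq, mn_eq]
  have : sm j (g * (ts t).1) = Matrix.of fun a b => ((t (Fin.castLE j.2 b) : kˣ) : k) * sm j g a b := by
    ext a b
    show (g * Matrix.diagonal (tsVec t) : MM m k) _ _ = _
    rw [Matrix.mul_diagonal, mul_comm]
    rfl
  rw [this, Matrix.det_mul_row, chi, Units.coe_prod]

theorem mn_ts_mul (j : Fin m) (g : MM m k) (t : Fin m → kˣ) :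
    mn j ((ts t).1 * g) = chi j t * mn j g := by
  rw [mn_eq, mn_eq]
  have : sm j ((ts t).1 * g) = Matrix.of fun a b => ((t (Fin.castLE j.2 a) : kˣ) : k) * sm j g a b := by
    ext a b
    show (Matrix.diagonal (tsVec t) * g : MM m k) _ _ = _
    rw [Matrix.diagonal_mul]
    rfl
  rw [this, Matrix.det_mul_column, chi, Units.coe_prod]

theorem ts_mul (t u : Fin m → kˣ) : ts (t * u) = ts t * ts u := by
  apply Subtype.ext
  show Matrix.diagonal (tsVec (t * u)) = Matrix.diagonal (tsVec t) * Matrix.diagonal (tsVec u)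
  rw [Matrix.diagonal_mul_diagonal]
  congr 1
  funext j
  rcases j with j | j
  · show ((t j * u j : kˣ) : k) = _
    rw [Units.val_mul]; rfl
  · show (((t j * u j)⁻¹ : kˣ) : k) = (((t j)⁻¹ : kˣ) : k) * (((u j)⁻¹ : kˣ) : k)
    rw [mul_inv, Units.val_mul]

/-- the torus as a homomorphism -/
def tsHom : (Fin m → kˣ) →* SG m k where
  toFun := ts
  map_one' := by
    have h := ts_mul (1 : Fin m → kˣ) (1 : Fin m → kˣ)
    rw [mul_one] at h
    exact (mul_eq_left.1 h.symm)
  map_mul' := ts_mul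

theorem ts_one : ts (1 : Fin m → kˣ) = 1 := tsHom.map_one
theorem ts_pow (t : Fin m → kˣ) (n : ℕ) : ts (t ^ n) = ts t ^ n := tsHom.map_pow t n

/-! ### the matrix coefficient -/

theorem cs_one (n : Fin m → ℕ) : cs n (1 : MM m k) = 1 := by
  unfold cs
  exact Finset.prod_eq_one fun j _ => by rw [mn_one, one_pow]

theorem cs_mul_xs (n : Fin m → ℕ) (g : MM m k) (i : Fin m) (s : k) :
    cs n (g * (xs i s).1) = cs n g := by
  unfold cs
  exact Finset.prod_congr rfl fun j _ => by rw [mn_mul_xs]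

theorem cs_tp (n : Fin m → ℕ) (g : SG m k) : cs n (tp g).1 = cs n g.1 := by
  unfold cs
  exact Finset.prod_congr rfl fun j _ => by
    show mn j (g.1)ᵀ ^ _ = _
    rw [mn_transpose]

theorem cs_ys_mul (n : Fin m → ℕ) (g : SG m k) (i : Fin m) (s : k) : cs n (ys i s * g).1 = cs n g.1 := by
  rw [← cs_tp, tp_mul, tp_ys, ← cs_tp n g]
  exact cs_mul_xs n _ i s

theorem cs_ts_mul (n : Fin m → ℕ) (g : MM m k) (t : Fin m → kˣ) :
    cs n ((ts t).1 * g) = lam n t * cs n g := by
  unfold cs lam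
  rw [Units.coe_prod, ← Finset.prod_mul_distrib]
  exact Finset.prod_congr rfl fun j _ => by rw [mn_ts_mul, mul_pow, Units.val_pow_eq_pow_val]

theorem cs_mul_ts (n : Fin m → ℕ) (g : MM m k) (t : Fin m → kˣ) :
    cs n (g * (ts t).1) = lam n t * cs n g := by
  unfold cs lam
  rw [Units.coe_prod, ← Finset.prod_mul_distrib]
  exact Finset.prod_congr rfl fun j _ => by rw [mn_mul_ts, mul_pow, Units.val_pow_eq_pow_val]

theorem cs_ts (n : Fin m → ℕ) (t : Fin m → kˣ) : cs n (ts t).1 = lam n t := by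
  have h := cs_ts_mul n 1 t
  rw [mul_one, cs_one, mul_one] at h
  exact h

/-! ### degrees -/

/-- degree of `cs` when the entries have degree `≤ d` -/
theorem pol_cs {Θ : Type*} {e : Θ → k} {d : ℕ} (n : Fin m → ℕ)
    (γ : Θ → MM m k)
    (h : ∀ a b : Fin m, PolLE e d fun θ => γ θ (.inl a) (.inl b)) :
    PolLE e (∑ j : Fin m, n j * ((j.1 + 1) * d)) fun θ => cs n (γ θ) := by
  unfold cs
  refine PolLE.prod _ fun j _ => PolLE.pow ?_ _
  have h1 := PolLE.det (A := fun θ => sm j (γ θ)) (e := e) (d := d) (fun a b => h _ _)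
  rw [Fintype.card_fin] at h1
  exact h1

theorem pol_xs (n : Fin m → ℕ) (i : Fin m) (g h : MM m k) :
    PolLE (id : k → k) (∑ j : Fin m, n j * ((j.1 + 1) * 1)) fun s => cs n (g * (xs i s).1 * h) := by
  refine pol_cs n _ fun a b => ?_
  refine ⟨C ((g * h : MM m k) (.inl a) (.inl b)) + C ((g * nm i * h : MM m k) (.inl a) (.inl b)) * Polynomial.X, ?_, fun s => ?_⟩
  · exact (natDegree_add_le _ _).trans (max_le (by simp) ((natDegree_C_mul_le _ _).trans natDegree_X_le))
  · show (g * (1 + s • nm i) * h : MM m k) _ _ = _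
    rw [mul_add, mul_one, add_mul, Matrix.add_apply, mul_smul_comm, smul_mul_assoc, Matrix.smul_apply,
      smul_eq_mul, eval_add, eval_C, eval_mul, eval_C, eval_X, mul_comm s]
    rfl

theorem pol_ys (n : Fin m → ℕ) (i : Fin m) (g h : SG m k) :
    PolLE (id : k → k) (∑ j : Fin m, n j * ((j.1 + 1) * 1)) fun s => cs n (g * ys i s * h).1 := by
  obtain ⟨P, h1, h2⟩ := pol_xs n i (tp h).1 (tp g).1
  refine ⟨P, h1, fun s => ?_⟩
  rw [← h2]
  show cs n (g * ys i s * h).1 = cs n (tp h * xs i s * tp g).1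
  rw [← cs_tp, tp_mul, tp_mul, tp_ys, mul_assoc]

/-- `t i = s ^ (2 (m - i) - 1)` -/
def dls (s : kˣ) : Fin m → kˣ := fun i => s ^ (2 * (m - i.1) - 1)

theorem dls_mul (s t : kˣ) : (dls (s * t) : Fin m → kˣ) = dls s * dls t := by
  funext i
  exact mul_pow _ _ _

theorem rs_dls (s : kˣ) (i : Fin m) : rs i (dls s) = s ^ 2 := by
  unfold rs dls
  split_ifs with h
  · show s ^ (2 * (m - i.1) - 1) * (s ^ (2 * (m - (i.1 + 1)) - 1))⁻¹ = s ^ 2
    have : 2 * (m - i.1) - 1 = 2 + (2 * (m - (i.1 + 1)) - 1) := by omega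
    rw [this, pow_add, mul_assoc, mul_inv_cancel, mul_one]
  · show (s ^ (2 * (m - i.1) - 1)) ^ 2 = s ^ 2
    have : 2 * (m - i.1) - 1 = 1 := by have := i.2; omega
    rw [this, pow_one]

theorem lam_dls (n : Fin m → ℕ) (s : kˣ) :
    lam n (dls s) = s ^ (∑ j : Fin m, (∑ a : Fin (j.1 + 1), (2 * (m - a.1) - 1)) * n j) := by
  unfold lam chi dls
  rw [← Finset.prod_pow_eq_pow_sum]
  refine Finset.prod_congr rfl fun j _ => ?_
  rw [pow_mul, ← Finset.prod_pow_eq_pow_sum]
  rfl

theorem pol_ds (n : Fin m → ℕ) (g h : MM m k) :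
    PolLE (fun s : kˣ => (s : k)) (∑ j : Fin m, n j * ((j.1 + 1) * (4 * m)))
      fun s => (s : k) ^ (∑ j : Fin m, (2 * m) * ((j.1 + 1) * n j)) * cs n (g * (ts (dls s)).1 * h) := by
  have hdet : ∀ j : Fin m, ∀ s : kˣ, (s : k) ^ ((2 * m) * ((j.1 + 1) * n j)) * mn j (g * (ts (dls s)).1 * h) ^ n j =
      (((s : k) ^ (2 * m) • sm j (g * (ts (dls s)).1 * h)).det) ^ n j := by
    intro j s
    rw [Matrix.det_smul, Fintype.card_fin, mn_eq, mul_pow, ← pow_mul, ← pow_mul, mul_assoc]
  have e : ∀ s : kˣ, (s : k) ^ (∑ j : Fin m, (2 * m) * ((j.1 + 1) * n j)) * cs n (g * (ts (dls s)).1 * h) =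
      ∏ j, (((s : k) ^ (2 * m) • sm j (g * (ts (dls s)).1 * h)).det) ^ n j := by
    intro s
    unfold cs
    rw [← Finset.prod_pow_eq_pow_sum, ← Finset.prod_mul_distrib]
    exact Finset.prod_congr rfl fun j _ => hdet j s
  have hpr : PolLE (fun s : kˣ => (s : k)) (∑ j : Fin m, n j * ((j.1 + 1) * (4 * m)))
      fun s => ∏ j, (((s : k) ^ (2 * m) • sm j (g * (ts (dls s)).1 * h)).det) ^ n j := by
    refine PolLE.prod _ fun j _ => PolLE.pow ?_ _
    have h1 := PolLE.det (A := fun s : kˣ => (s : k) ^ (2 * m) • sm j (g * (ts (dls s)).1 * h))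
      (e := fun s : kˣ => (s : k)) (d := 4 * m) (fun a b => ?_)
    · rw [Fintype.card_fin] at h1
      exact h1
    · -- an entry
      set a' : Fin m ⊕ Fin m := .inl (Fin.castLE j.2 a) with ha'
      set b' : Fin m ⊕ Fin m := .inl (Fin.castLE j.2 b) with hb'
      have h2 : ∀ s : kˣ, (s : k) ^ (2 * m) * (g * (ts (dls s)).1 * h : MM m k) a' b' =
          ∑ l : Fin m ⊕ Fin m, ((s : k) ^ (2 * m) * tsVec (dls s) l) * (g a' l * h l b') := by
        intro s
        rw [Matrix.mul_apply, Finset.mul_sum]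
        refine Finset.sum_congr rfl fun l _ => ?_
        show _ * ((g * Matrix.diagonal (tsVec (dls s)) : MM m k) a' l * _) = _
        rw [Matrix.mul_diagonal]
        ring
      have h4 : ∀ l : Fin m ⊕ Fin m, PolLE (fun s : kˣ => (s : k)) (4 * m)
          fun s => (s : k) ^ (2 * m) * tsVec (dls s) l := by
        intro l
        rcases l with l | l
        · refine ⟨Polynomial.X ^ (2 * m + (2 * (m - l.1) - 1)), by rw [natDegree_X_pow]; omega, fun s => ?_⟩
          rw [eval_pow, eval_X, pow_add]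
          show _ * ((s ^ (2 * (m - l.1) - 1) : kˣ) : k) = _
          rw [Units.val_pow_eq_pow_val]
        · refine ⟨Polynomial.X ^ (2 * m - (2 * (m - l.1) - 1)), by rw [natDegree_X_pow]; omega, fun s => ?_⟩
          rw [eval_pow, eval_X]
          show _ * (((s ^ (2 * (m - l.1) - 1))⁻¹ : kˣ) : k) = _
          rw [Units.val_inv_eq_inv_val, Units.val_pow_eq_pow_val]
          have hs : (s : k) ≠ 0 := s.ne_zero
          have h5 : (s : k) ^ (2 * m) = (s : k) ^ (2 * m - (2 * (m - l.1) - 1)) * (s : k) ^ (2 * (m - l.1) - 1) := by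
            rw [← pow_add]; congr 1; omega
          rw [h5, mul_assoc, mul_inv_cancel₀ (pow_ne_zero _ hs), mul_one]
      obtain ⟨P, h6, h7⟩ := PolLE.sum (e := fun s : kˣ => (s : k)) (d := 4 * m) Finset.univ
        (f := fun l s => ((s : k) ^ (2 * m) * tsVec (dls s) l) * (g a' l * h l b'))
        (fun l _ => (h4 l).mul_const _)
      exact ⟨P, h6, fun s => (h2 s).trans (h7 s)⟩
  obtain ⟨P, h6, h7⟩ := hpr
  exact ⟨P, h6, fun s => (e s).trans (h7 s)⟩

theorem sm_xs_mul (i j : Fin m) (s : k) (g : MM m k) (a b : Fin (j.1 + 1)) :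
    sm j ((xs i s).1 * g) a b = sm j g a b + if a.1 = i.1 then s * g (nx i) (.inl (Fin.castLE j.2 b)) else 0 := by
  show ((1 + s • nm i) * g : MM m k) (.inl (Fin.castLE j.2 a)) (.inl (Fin.castLE j.2 b)) = _
  rw [add_mul, one_mul, smul_mul_assoc, Matrix.add_apply, Matrix.smul_apply, nm_mul_row]
  have : (Fin.castLE j.2 a = i) ↔ a.1 = i.1 := by rw [Fin.ext_iff]; rfl
  simp only [this]
  by_cases h : a.1 = i.1
  · rw [if_pos h, if_pos h, smul_eq_mul]; rfl
  · rw [if_neg h, if_neg h, smul_zero]; rfl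

theorem mn_xs_mul_of_ne {i j : Fin m} (hij : j ≠ i) (s : k) (g : MM m k) :
    mn j ((xs i s).1 * g) = mn j g := by
  rw [mn_eq, mn_eq]
  have hne : j.1 ≠ i.1 := fun h => hij (Fin.ext h)
  by_cases h : i.1 < j.1
  · have hlt : i.1 + 1 < m := by have := j.2; omega
    have e2 : sm j ((xs i s).1 * g) = (sm j g).updateRow ⟨i.1, by omega⟩
        (sm j g ⟨i.1, by omega⟩ + s • sm j g ⟨i.1 + 1, by omega⟩) := by
      ext a b
      rw [sm_xs_mul, Matrix.updateRow_apply]
      by_cases ha : a.1 = i.1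
      · rw [if_pos ha, if_pos (Fin.ext ha)]
        obtain ⟨a, ha'⟩ := a
        have ha'' : a = i.1 := ha
        subst ha''
        unfold nx
        rw [dif_pos hlt]
        rfl
      · rw [if_neg ha, if_neg (fun h => ha (by rw [h])), add_zero]
    rw [e2]
    exact Matrix.det_updateRow_add_smul_self _ (by simp [Fin.ext_iff]) _
  · congr 1
    ext a b
    rw [sm_xs_mul, if_neg (by omega), add_zero]

theorem pol_mn_self (i : Fin m) (g : MM m k) :
    PolLE (id : k → k) 1 fun s => mn i ((xs i s).1 * g) := by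
  have e2 : ∀ s, sm i ((xs i s).1 * g) = (sm i g).updateRow ⟨i.1, by omega⟩
      ((sm i g ⟨i.1, by omega⟩) + s • (fun b => g (nx i) (.inl (Fin.castLE i.2 b)))) := by
    intro s
    ext a b
    rw [sm_xs_mul, Matrix.updateRow_apply]
    by_cases ha : a.1 = i.1
    · rw [if_pos ha, if_pos (Fin.ext ha)]
      obtain ⟨a, ha'⟩ := a
      have ha'' : a = i.1 := ha
      subst ha''
      rfl
    · rw [if_neg ha, if_neg (fun h => ha (by rw [h])), add_zero]
  refine ⟨C (mn i g) + C ((sm i g).updateRow ⟨i.1, by omega⟩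
      (fun b => g (nx i) (.inl (Fin.castLE i.2 b)))).det * Polynomial.X, ?_, fun s => ?_⟩
  · exact (natDegree_add_le _ _).trans (max_le (by simp) ((natDegree_C_mul_le _ _).trans natDegree_X_le))
  · beta_reduce
    rw [mn_eq, e2, Matrix.det_updateRow_add, Matrix.updateRow_eq_self, Matrix.det_updateRow_smul, ← mn_eq]
    simp only [eval_add, eval_mul, eval_C, eval_X, id]
    ring

theorem deg_cs (n : Fin m → ℕ) (i : Fin m) (g : MM m k) :
    PolLE (id : k → k) (n i) fun s => cs n ((xs i s).1 * g) := by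
  have h1 : PolLE (id : k → k) (∑ j : Fin m, if j = i then n i else 0) fun s => cs n ((xs i s).1 * g) := by
    unfold cs
    refine PolLE.prod _ fun j _ => ?_
    by_cases hj : j = i
    · subst hj
      rw [if_pos rfl]
      exact ((pol_mn_self j g).pow (n j)).mono (by omega)
    · rw [if_neg hj]
      simp only [mn_xs_mul_of_ne hj]
      exact PolLE.const _ _
  rw [Finset.sum_ite_eq' Finset.univ i, if_pos (Finset.mem_univ _)] at h1
  exact h1

end Cfsg.Agent.H45.UniS
end

-- part: H45/UniS/Datum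
section
set_option linter.all false
open scoped Cfsg.Agent.FastGrp

/-!
# Theorem (U) for symplectic groups: the datum
-/

set_option autoImplicit false
set_option linter.unusedSimpArgs false
set_option linter.unusedSectionVars false

namespace Cfsg.Agent.H45.UniS

open Matrix Polynomial Cfsg.Agent.H45.Uni

section RepD

variable {k : Type*} [Field k]

/-- functions of `s, t`, polynomial, with coefficient of `t ^ n` of degree `≤ 2 n` -/
def RepD (f : k → k → k) : Prop :=
  ∃ P : k[X][X], (∀ n, (P.coeff n).natDegree ≤ 2 * n) ∧ ∀ s t, f s t = (P.map (evalRingHom s)).eval t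

theorem RepD.const (a : k) : RepD fun _ _ => a := by
  refine ⟨C (C a), fun n => ?_, fun s t => by simp⟩
  rw [coeff_C]
  split_ifs <;> simp

theorem RepD.add {f g : k → k → k} (hf : RepD f) (hg : RepD g) : RepD fun s t => f s t + g s t := by
  obtain ⟨P, h1, h3⟩ := hf
  obtain ⟨R, h4, h6⟩ := hg
  refine ⟨P + R, fun n => ?_, fun s t => ?_⟩
  · rw [coeff_add]
    exact (natDegree_add_le _ _).trans (max_le (h1 n) (h4 n))
  · beta_reduce
    rw [h3, h6, Polynomial.map_add, eval_add]

theorem RepD.mul {f g : k → k → k} (hf : RepD f) (hg : RepD g) : RepD fun s t => f s t * g s t := by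
  obtain ⟨P, h1, h3⟩ := hf
  obtain ⟨R, h4, h6⟩ := hg
  refine ⟨P * R, fun n => ?_, fun s t => ?_⟩
  · rw [coeff_mul]
    refine natDegree_sum_le_of_forall_le _ _ fun x hx => ?_
    replace hx := Finset.HasAntidiagonal.mem_antidiagonal.1 hx
    have h7 := h1 x.1
    have h8 := h4 x.2
    exact natDegree_mul_le.trans (by omega)
  · beta_reduce
    rw [h3, h6, Polynomial.map_mul, eval_mul]

theorem RepD.sum {α : Type*} (s : Finset α) {f : α → k → k → k} (hf : ∀ a ∈ s, RepD (f a)) :
    RepD fun x t => ∑ a ∈ s, f a x t := by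
  classical
  induction s using Finset.induction_on with
  | empty => simpa using RepD.const (0 : k)
  | insert a s ha ih =>
    simp only [Finset.sum_insert ha]
    exact (hf a (Finset.mem_insert_self _ _)).add (ih fun b hb => hf b (Finset.mem_insert_of_mem hb))

theorem RepD.prod {α : Type*} (s : Finset α) {f : α → k → k → k} (hf : ∀ a ∈ s, RepD (f a)) :
    RepD fun x t => ∏ a ∈ s, f a x t := by
  classical
  induction s using Finset.induction_on with
  | empty => simpa using RepD.const (1 : k)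
  | insert a s ha ih =>
    simp only [Finset.prod_insert ha]
    exact (hf a (Finset.mem_insert_self _ _)).mul (ih fun b hb => hf b (Finset.mem_insert_of_mem hb))

theorem RepD.pow {f : k → k → k} (hf : RepD f) (n : ℕ) : RepD fun s t => f s t ^ n := by
  induction n with
  | zero => simpa using RepD.const (1 : k)
  | succ n ih => simp only [pow_succ]; exact ih.mul hf

theorem RepD.det {n : Type*} [Fintype n] [DecidableEq n] {A : k → k → Matrix n n k}
    (hA : ∀ a b, RepD fun s t => A s t a b) : RepD fun s t => (A s t).det := by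
  simp only [Matrix.det_apply, Units.smul_def, zsmul_eq_mul]
  exact RepD.sum _ fun σ _ => (RepD.const _).mul (RepD.prod _ fun i _ => hA _ _)

end RepD

variable {m : ℕ} {k : Type*} [Field k]

theorem repD_cs (n : Fin m → ℕ) (i j : Fin m) (g h : MM m k) :
    RepD fun s t => cs n (g * (xs i (-s)).1 * (xs j t).1 * (xs i s).1 * h) := by
  unfold cs
  refine RepD.prod _ fun l _ => RepD.pow ?_ _
  refine RepD.det (A := fun s t => sm l (g * (xs i (-s)).1 * (xs j t).1 * (xs i s).1 * h)) fun a b => ?_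
  -- an entry
  set a' : Fin m ⊕ Fin m := .inl (Fin.castLE l.2 a) with ha'
  set b' : Fin m ⊕ Fin m := .inl (Fin.castLE l.2 b) with hb'
  have e : ∀ s t : k, g * (xs i (-s)).1 * (xs j t).1 * (xs i s).1 * h = g * h + t • (g * nm j * h) +
      (t * s) • (g * (nm j * nm i - nm i * nm j) * h) - (t * s ^ 2) • (g * (nm i * nm j * nm i) * h) := by
    intro s t
    show g * (1 + (-s) • nm i) * (1 + t • nm j) * (1 + s • nm i) * h = _
    have h1 : (1 + (-s) • nm i) * (1 + t • nm j) * (1 + s • nm i) = 1 + t • nm j + (t * s) • (nm j * nm i - nm i * nm j) -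
        (t * s ^ 2) • (nm i * nm j * nm i : MM m k) := by
      have h2 : (nm i * nm i : MM m k) = 0 := nm_sq i
      have h3 : (1 + (-s) • nm i) * (1 + t • nm j) * (1 + s • nm i) = 1 + t • nm j + (t * s) • (nm j * nm i - nm i * nm j) -
        (t * s ^ 2) • (nm i * nm j * nm i : MM m k) - (s ^ 2) • (nm i * nm i) := by
        simp only [mul_add, add_mul, mul_one, one_mul, smul_mul_assoc, mul_smul_comm, smul_sub, smul_smul, neg_smul,
          neg_mul, smul_neg]
        module
      rw [h3, h2, smul_zero, sub_zero]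
    rw [mul_assoc g, mul_assoc g, h1, mul_sub, mul_add, mul_add, mul_one, sub_mul, add_mul, add_mul]
    simp only [mul_smul_comm, smul_mul_assoc]
  refine ⟨C (C ((g * h : MM m k) a' b')) + C (C ((g * nm j * h : MM m k) a' b') +
    C ((g * (nm j * nm i - nm i * nm j) * h : MM m k) a' b') * Polynomial.X -
    C ((g * (nm i * nm j * nm i) * h : MM m k) a' b') * Polynomial.X ^ 2) * Polynomial.X, fun r => ?_, fun s t => ?_⟩
  · rw [coeff_add, coeff_C, coeff_C_mul, coeff_X]
    by_cases hr : r = 0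
    · subst hr
      simp
    · rw [if_neg hr, zero_add]
      by_cases hr1 : 1 = r
      · subst hr1
        rw [if_pos rfl, mul_one]
        refine (natDegree_sub_le _ _).trans (max_le ((natDegree_add_le _ _).trans (max_le ?_ ?_)) ?_)
        · simp
        · exact ((natDegree_C_mul_le _ _).trans natDegree_X_le).trans (by omega)
        · exact natDegree_C_mul_X_pow_le _ _
      · rw [if_neg hr1, mul_zero]
        simp
  · show (g * (xs i (-s)).1 * (xs j t).1 * (xs i s).1 * h : MM m k) a' b' = _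
    rw [e]
    simp only [Matrix.add_apply, Matrix.sub_apply, Matrix.smul_apply, smul_eq_mul, Polynomial.map_add,
      Polynomial.map_sub, Polynomial.map_mul, Polynomial.map_C, Polynomial.map_X, coe_evalRingHom, eval_add, eval_sub,
      eval_mul, eval_C, eval_X, eval_pow]
    ring

/-- the torus of `G` -/
def TS (m : ℕ) (k : Type*) [Field k] : Subgroup (SG m k) := (tsHom (m := m) (k := k)).range

theorem mem_TS {g : SG m k} : g ∈ TS m k ↔ ∃ t, g = ts t :=
  ⟨fun ⟨t, ht⟩ => ⟨t, ht.symm⟩, fun ⟨t, ht⟩ => ⟨t, ht.symm⟩⟩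

theorem xs_add (i : Fin m) (s t : k) : xs i (s + t) = xs i s * xs i t := by
  apply Subtype.ext
  show 1 + (s + t) • nm i = (1 + s • nm i) * (1 + t • nm i)
  have h2 : (nm i * nm i : MM m k) = 0 := nm_sq i
  rw [mul_add, add_mul, add_mul, mul_one, one_mul, mul_one, smul_mul_assoc, mul_smul_comm, h2, smul_zero, smul_zero,
    add_zero, add_smul]
  abel

theorem ys_add (i : Fin m) (s t : k) : ys i (s + t) = ys i s * ys i t := by
  show tp (xs i (s + t)) = tp (xs i s) * tp (xs i t)
  rw [← tp_mul, ← xs_add, add_comm]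

/-- **the datum of `cs n`** -/
noncomputable def dats {p e : ℕ} (hp : 2 < p) (n : Fin m → ℕ) (hn : ∀ j, n j < p ^ e) (h1 : SGen m k)
    (h2 : SRank m k) (h3 : SComm m k) (h4 : STor m k) : DatQ p e (Fin m) k (SG m k) where
  x := xs
  y := ys
  T := TS m k
  δ s := ts (dls s)
  c g := cs n g.1
  wt := (∑ j : Fin m, (∑ a : Fin (j.1 + 1), (2 * (m - a.1) - 1)) * n j : ℕ)
  N := ∑ j : Fin m, n j * ((j.1 + 1) * (4 * m))
  M := ∑ j : Fin m, (2 * m) * ((j.1 + 1) * n j)
  d := 2
  d_pos := by norm_num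
  x_add := xs_add
  y_add := ys_add
  δ_mul s t := by rw [dls_mul, ts_mul]
  δ_mem s := mem_TS.2 ⟨_, rfl⟩
  c_one := cs_one n
  c_x g i s := cs_mul_xs n g.1 i s
  c_y g i s := cs_ys_mul n g i s
  c_T t ht g := by
    obtain ⟨u, rfl⟩ := mem_TS.1 ht
    show cs n ((ts u).1 * g.1) = cs n (ts u).1 * cs n g.1
    rw [cs_ts_mul, cs_ts]
  c_δ g s := by
    show cs n (g.1 * (ts (dls s)).1) = _
    rw [cs_mul_ts, lam_dls, zpow_natCast]
  δ_x s i a := by
    have h := (h4 (dls s) i a).1
    rw [rs_dls, Units.val_pow_eq_pow_val] at h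
    exact h
  T_x t ht i := by
    obtain ⟨u, rfl⟩ := mem_TS.1 ht
    refine ⟨((rs i u)⁻¹ : kˣ), fun a => ?_⟩
    have h := (h4 u i (((rs i u)⁻¹ : kˣ) * a)).1
    rw [← mul_assoc, ← Units.val_mul, mul_inv_cancel, Units.val_one, one_mul] at h
    exact h.symm
  T_y t ht i := by
    obtain ⟨u, rfl⟩ := mem_TS.1 ht
    exact ⟨((rs i u)⁻¹ : kˣ), fun a => (h4 u i a).2⟩
  comm i j a s hij := h3 i j a s hij
  rank i a s h := by
    have h7 := h2 i a s (Units.mk0 _ h) rfl
    exact ⟨_, mem_TS.2 ⟨_, rfl⟩, h7⟩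
  gen := by
    rw [eq_top_iff]
    intro g _
    exact h1 g
  pol_x i g h := by
    obtain ⟨P, hP, hP'⟩ := pol_xs n i g.1 h.1
    refine ⟨P, hP.trans (Finset.sum_le_sum fun j _ => ?_), hP'⟩
    have : 1 ≤ m := by have := j.2; omega
    gcongr
    omega
  pol_y i g h := by
    obtain ⟨P, hP, hP'⟩ := pol_ys n i g h
    exact ⟨P, hP'⟩
  pol_δ g h := pol_ds n g.1 h.1
  deg i g := by
    obtain ⟨P, hP, hP'⟩ := deg_cs n i g.1
    exact ⟨P, hP.trans_lt (hn i), hP'⟩
  pair i j g h := by
    obtain ⟨P, hP, hP'⟩ := repD_cs n i j g.1 h.1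
    refine ⟨P, fun l hl => (hP _).trans_lt ?_, hP'⟩
    obtain ⟨e', rfl⟩ : ∃ e', e = e' + 1 := ⟨e - 1, by omega⟩
    have h5 : p ^ l ≤ p ^ e' := Nat.pow_le_pow_right (by omega) (by omega)
    rw [pow_succ]
    have h6 : 0 < p ^ e' := pow_pos (by omega) _
    nlinarith

end Cfsg.Agent.H45.UniS
end

-- part: H45/UniS/Bc
section
set_option linter.all false
open scoped Cfsg.Agent.FastGrp

/-!
# Theorem (U) for symplectic groups: base change, and the rank one formula
-/

set_option autoImplicit false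
set_option linter.unusedSimpArgs false
set_option linter.unusedSectionVars false

namespace Cfsg.Agent.H45.UniS

open Matrix Polynomial Cfsg.Agent.H45.Uni

section bc

variable {m : ℕ} {F K : Type*} [Field F] [Field K] [Algebra F K]

theorem map_J : (J (Fin m) F).map (algebraMap F K) = J (Fin m) K := by
  unfold J
  rw [Matrix.fromBlocks_map, Matrix.map_zero _ (map_zero _), Matrix.map_one _ (map_zero _) (map_one _)]
  congr 1
  ext a b
  rw [Matrix.map_apply, Matrix.neg_apply, Matrix.neg_apply, map_neg, Matrix.one_apply, Matrix.one_apply]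
  split_ifs <;> simp

theorem bcs_mem {g : MM m F} (hg : g ∈ symplecticGroup (Fin m) F) :
    g.map (algebraMap F K) ∈ symplecticGroup (Fin m) K := by
  rw [SymplecticGroup.mem_iff] at hg ⊢
  rw [← map_J (F := F), ← Matrix.transpose_map, ← Matrix.map_mul, ← Matrix.map_mul, hg]

variable (m F K) in
/-- base change -/
def bcs : SG m F →* SG m K where
  toFun g := ⟨g.1.map (algebraMap F K), bcs_mem g.2⟩
  map_one' := Subtype.ext (Matrix.map_one _ (map_zero _) (map_one _))
  map_mul' g h := Subtype.ext Matrix.map_mul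

theorem map_nm (i : Fin m) : (nm i : MM m F).map (algebraMap F K) = nm i := by
  unfold nm
  split_ifs with h
  · rw [Matrix.fromBlocks_map, Matrix.map_zero _ (map_zero _)]
    congr 1
    · ext a b
      rw [Matrix.map_apply, Matrix.single_apply, Matrix.single_apply]
      split_ifs <;> simp
    · ext a b
      rw [Matrix.map_apply, Matrix.neg_apply, Matrix.neg_apply, map_neg, Matrix.single_apply, Matrix.single_apply]
      split_ifs <;> simp
  · rw [Matrix.fromBlocks_map, Matrix.map_zero _ (map_zero _)]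
    congr 1
    ext a b
    rw [Matrix.map_apply, Matrix.single_apply, Matrix.single_apply]
    split_ifs <;> simp

theorem bcs_xs (i : Fin m) (s : F) : bcs m F K (xs i s) = xs i (algebraMap F K s) := by
  apply Subtype.ext
  show (1 + s • nm i : MM m F).map (algebraMap F K) = 1 + algebraMap F K s • nm i
  rw [Matrix.map_add _ (map_add _), Matrix.map_one _ (map_zero _) (map_one _)]
  congr 1
  ext a b
  rw [Matrix.map_apply, Matrix.smul_apply, Matrix.smul_apply, smul_eq_mul, smul_eq_mul, map_mul,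
    ← map_nm (F := F) (K := K), Matrix.map_apply]

theorem bcs_tp (g : SG m F) : bcs m F K (tp g) = tp (bcs m F K g) := by
  apply Subtype.ext
  show (g.1ᵀ).map (algebraMap F K) = (g.1.map (algebraMap F K))ᵀ
  rfl

theorem bcs_ys (i : Fin m) (s : F) : bcs m F K (ys i s) = ys i (algebraMap F K s) := by
  show bcs m F K (tp (xs i s)) = _
  rw [bcs_tp, bcs_xs]
  rfl

theorem bcs_ts (t : Fin m → Fˣ) : bcs m F K (ts t) = ts fun i => Units.map (algebraMap F K).toMonoidHom (t i) := by
  apply Subtype.ext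
  show (Matrix.diagonal (tsVec t)).map (algebraMap F K) = Matrix.diagonal (tsVec _)
  rw [Matrix.diagonal_map (map_zero _)]
  congr 1
  funext j
  rcases j with j | j
  · rfl
  · show algebraMap F K (((t j)⁻¹ : Fˣ) : F) = (((Units.map (algebraMap F K).toMonoidHom (t j))⁻¹ : Kˣ) : K)
    rw [← map_inv]
    rfl

end bc

section nn

variable {m : ℕ} {k : Type*} [Field k]

/-- the character of a coroot -/
theorem chi_hs (i j : Fin m) (c : kˣ) : chi j (hs i c) = if j = i then c else 1 := by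
  unfold chi hs
  rcases lt_trichotomy j.1 i.1 with hlt | heq | hgt
  · rw [if_neg (fun h => by rw [h] at hlt; exact lt_irrefl _ hlt)]
    refine Finset.prod_eq_one fun a _ => ?_
    have ha := a.2
    rw [if_neg, if_neg]
    · intro h
      have : a.1 = i.1 + 1 := h
      omega
    · intro h
      have : a.1 = i.1 := congrArg Fin.val h
      omega
  · have : j = i := Fin.ext heq
    subst this
    rw [if_pos rfl, Finset.prod_eq_single ⟨j.1, by omega⟩]
    · rw [if_pos (by ext; rfl)]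
    · intro a _ ha
      have ha2 := a.2
      have ha' : a.1 ≠ j.1 := fun h => ha (Fin.ext h)
      rw [if_neg, if_neg]
      · intro h
        have : a.1 = j.1 + 1 := h
        omega
      · intro h
        exact ha' (congrArg Fin.val h)
    · intro h; exact absurd (Finset.mem_univ _) h
  · rw [if_neg (fun h => by rw [h] at hgt; exact lt_irrefl _ hgt)]
    have h1 : (⟨i.1, by omega⟩ : Fin (j.1 + 1)) ≠ ⟨i.1 + 1, by omega⟩ := by
      intro h; have := congrArg Fin.val h; simp at this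
    rw [← Finset.mul_prod_erase Finset.univ _ (Finset.mem_univ (⟨i.1, by omega⟩ : Fin (j.1 + 1))),
      ← Finset.mul_prod_erase (Finset.univ.erase (⟨i.1, by omega⟩ : Fin (j.1 + 1))) _
        (Finset.mem_erase.2 ⟨h1.symm, Finset.mem_univ (⟨i.1 + 1, by omega⟩ : Fin (j.1 + 1))⟩)]
    rw [Finset.prod_eq_one, mul_one, if_pos (by ext; rfl), if_neg, if_pos (by rfl), mul_inv_cancel]
    · intro h
      have := congrArg Fin.val h
      simp at this
    · intro a ha
      rw [Finset.mem_erase, Finset.mem_erase] at ha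
      rw [if_neg, if_neg]
      · intro h
        exact ha.1 (Fin.ext h)
      · intro h
        exact ha.2.1 (Fin.ext (show a.1 = i.1 from congrArg Fin.val h))

theorem lam_hs (n : Fin m → ℕ) (i : Fin m) (c : kˣ) : lam n (hs i c) = c ^ n i := by
  unfold lam
  simp only [chi_hs]
  rw [Finset.prod_eq_single i]
  · rw [if_pos rfl]
  · intro j _ hj
    rw [if_neg hj, one_pow]
  · intro h; exact absurd (Finset.mem_univ _) h

/-- **the rank one formula** : `c (g x(-1) y(1)) = - ∑ t ^ (q - 1 - n) c (g y(t))` -/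
theorem nn_cs {F : Type*} [Field F] [Fintype F] [Algebra F k] [Infinite k] (h2 : SRank m k) (n : Fin m → ℕ)
    (i : Fin m) (ha : n i < Fintype.card F) (g : SG m k) :
    cs n (g * (xs i (-1) * ys i 1)).1 = - ∑ t : F, algebraMap F k t ^ (Fintype.card F - 1 - n i) *
      cs n (g * ys i (algebraMap F k t)).1 := by
  -- the polynomials
  have hpol : ∀ g : SG m k, ∃ P : k[X], P.natDegree ≤ n i ∧ ∀ t, cs n (g * ys i t).1 = P.eval t := by
    intro g
    obtain ⟨P, hP, hP'⟩ := deg_cs n i (tp g).1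
    refine ⟨P, hP, fun t => ?_⟩
    have h3 := hP' t
    rw [← cs_tp, tp_mul, tp_ys]
    exact h3
  obtain ⟨P, hP, hP'⟩ := hpol g
  obtain ⟨R, hR, hR'⟩ := hpol (g * xs i (-1))
  -- `R (t) = ∑ p_j t ^ j (1 - t) ^ (a - j)`
  have hRP : R = ∑ j ∈ Finset.range (n i + 1), C (P.coeff j) * (Polynomial.X ^ j * (1 - Polynomial.X) ^ (n i - j)) := by
    apply Polynomial.eq_of_infinite_eval_eq
    apply Set.Infinite.mono (s := ({(1 : k)}ᶜ : Set k))
    · intro t ht
      have ht1 : (1 : k) - t ≠ 0 := by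
        intro h
        exact ht (sub_eq_zero.1 h).symm
      show R.eval t = _
      have h4 := h2 i (-1) t (Units.mk0 _ ht1) (by rw [Units.val_mk0]; ring)
      rw [← hR', mul_assoc, h4, Units.val_mk0]
      have e1 : (g * (ys i (t / (1 - t)) * ts (hs i (Units.mk0 (1 - t) ht1)) * xs i (-1 / (1 - t)))).1 =
        (g * ys i (t / (1 - t))).1 * (ts (hs i (Units.mk0 (1 - t) ht1))).1 * (xs i (-1 / (1 - t))).1 := by
        simp only [← mul_assoc]
        rfl
      rw [e1, cs_mul_xs, cs_mul_ts, lam_hs, hP', eval_eq_sum_range' (Nat.lt_succ_of_le hP), eval_finsetSum,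
        Finset.mul_sum]
      refine Finset.sum_congr rfl fun j hj => ?_
      rw [Finset.mem_range] at hj
      simp only [eval_mul, eval_C, eval_pow, eval_X, eval_sub, eval_one, Units.val_pow_eq_pow_val, Units.val_mk0]
      have h5 : (1 - t) ^ n i = (1 - t) ^ (n i - j) * (1 - t) ^ j := by
        rw [← pow_add]; congr 1; omega
      rw [h5, div_pow]
      field_simp
    · exact (Set.finite_singleton (1 : k)).infinite_compl
  have hL : cs n (g * (xs i (-1) * ys i 1)).1 = P.coeff (n i) := by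
    rw [← mul_assoc, hR', hRP, eval_finsetSum, Finset.sum_eq_single (n i)]
    · simp
    · intro j hj hj'
      rw [Finset.mem_range] at hj
      simp only [eval_mul, eval_C, eval_pow, eval_X, eval_sub, eval_one, sub_self]
      rw [zero_pow (by omega)]
      ring
    · intro h
      exact absurd (Finset.mem_range.2 (Nat.lt_succ_self _)) h
  rw [hL]
  have hR2 : ∀ t : F, algebraMap F k t ^ (Fintype.card F - 1 - n i) * cs n (g * ys i (algebraMap F k t)).1 =
      ∑ j ∈ Finset.range (n i + 1), P.coeff j * algebraMap F k (t ^ (Fintype.card F - 1 - n i + j)) := by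
    intro t
    rw [hP', eval_eq_sum_range' (Nat.lt_succ_of_le hP), Finset.mul_sum]
    refine Finset.sum_congr rfl fun j _ => ?_
    rw [map_pow, pow_add]
    ring
  rw [Finset.sum_congr rfl fun t _ => hR2 t, Finset.sum_comm]
  have hq : 1 < Fintype.card F := Fintype.one_lt_card
  have h6 : ∀ j ∈ Finset.range (n i + 1), ∑ t : F, P.coeff j * algebraMap F k (t ^ (Fintype.card F - 1 - n i + j)) =
      if j = n i then - P.coeff (n i) else 0 := by
    intro j hj
    rw [Finset.mem_range] at hj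
    rw [← Finset.mul_sum, ← map_sum, sum_pow_le _ (by omega)]
    by_cases h7 : j = n i
    · rw [if_pos (by omega), if_pos h7, map_neg, map_one, h7]; ring
    · rw [if_neg (by omega), if_neg h7, map_zero, mul_zero]
  rw [Finset.sum_congr rfl h6, Finset.sum_ite_eq', if_pos (Finset.mem_range.2 (Nat.lt_succ_self _)), neg_neg]

end nn

end Cfsg.Agent.H45.UniS
end
end
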